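import Cfsg.Agent.Lib.Helper6.TCD.Y5W.Par
set_option autoImplicit false
set_option maxRecDepth 1000000
set_option Elab.async false
open Cfsg.Agent.Lib.Helper6.TC
namespace Cfsg.Agent.Lib.Helper6.TCD.Y5W
theorem chkS0 : chkFix S10 0 8000 = true := by decide +kernel
theorem chkS1 : chkFix S10 8000 8000 = true := by decide +kernel
theorem chkS2 : chkFix S10 16000 8000 = true := by decide +kernel
theorem chkS3 : chkFix S10 24000 7671 = true := by decide +kernel
end Cfsg.Agent.Lib.Helper6.TCD.Y5W
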