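import Cfsg.Agent.Lib.Helper6.TCD.Y5W.Par
set_option autoImplicit false
set_option maxRecDepth 1000000
set_option Elab.async false
open Cfsg.Agent.Lib.Helper6.TC
namespace Cfsg.Agent.Lib.Helper6.TCD.Y5W
theorem chkV9_0 : chkFix (fun q => wappS px2 [9, 10, 9, 10] q) 0 8000 = true := by decide +kernel
theorem chkV9_1 : chkFix (fun q => wappS px2 [9, 10, 9, 10] q) 8000 8000 = true := by decide +kernel
theorem chkV9_2 : chkFix (fun q => wappS px2 [9, 10, 9, 10] q) 16000 8000 = true := by decide +kernel
theorem chkV9_3 : chkFix (fun q => wappS px2 [9, 10, 9, 10] q) 24000 7671 = true := by decide +kernel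
end Cfsg.Agent.Lib.Helper6.TCD.Y5W
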