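import Cfsg.Agent.Lib.Helper6.TCD.Y5W.CQ
import Cfsg.Agent.Lib.Helper6.TCD.Y5W.CV0
import Cfsg.Agent.Lib.Helper6.TCD.Y5W.CV1
import Cfsg.Agent.Lib.Helper6.TCD.Y5W.CV2
import Cfsg.Agent.Lib.Helper6.TCD.Y5W.CV3
import Cfsg.Agent.Lib.Helper6.TCD.Y5W.CV4
import Cfsg.Agent.Lib.Helper6.TCD.Y5W.CV5
import Cfsg.Agent.Lib.Helper6.TCD.Y5W.CV6
import Cfsg.Agent.Lib.Helper6.TCD.Y5W.CV7
import Cfsg.Agent.Lib.Helper6.TCD.Y5W.CV8
import Cfsg.Agent.Lib.Helper6.TCD.Y5W.CV9
import Cfsg.Agent.Lib.Helper6.TCD.Y5W.CV10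
import Cfsg.Agent.Lib.Helper6.TCD.Y5W.CS
import Cfsg.Agent.Lib.Helper6.TC11
set_option autoImplicit false
namespace Cfsg.Agent.Lib.Helper6.TCD.Y5W
open Cfsg.Agent.Lib.Helper6.TC

theorem hQW : ∀ p < Fi23a.N, wapp Fi23a.px w7 p = QW p := by
  intro p hp
  have hp' : p < 31671 := hp
  have key : (Nat.beq (wappS Fi23a.px w7 p) (QW p)) = true := by
    by_cases h0 : p < 8000
    · exact allR_spec chkQW0 p (by omega) (by omega)
    by_cases h1 : p < 16000
    · exact allR_spec chkQW1 p (by omega) (by omega)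
    by_cases h2 : p < 24000
    · exact allR_spec chkQW2 p (by omega) (by omega)
    by_cases h3 : p < 31671
    · exact allR_spec chkQW3 p (by omega) (by omega)
    omega
  rw [Nat.beq_eq, wappS_eq] at key
  exact key

theorem hQS : ∀ p < Fi23a.N, wapp Fi23a.px s9 p = QS p := by
  intro p hp
  have hp' : p < 31671 := hp
  have key : (Nat.beq (wappS Fi23a.px s9 p) (QS p)) = true := by
    by_cases h0 : p < 8000
    · exact allR_spec chkQS0 p (by omega) (by omega)
    by_cases h1 : p < 16000
    · exact allR_spec chkQS1 p (by omega) (by omega)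
    by_cases h2 : p < 24000
    · exact allR_spec chkQS2 p (by omega) (by omega)
    by_cases h3 : p < 31671
    · exact allR_spec chkQS3 p (by omega) (by omega)
    omega
  rw [Nat.beq_eq, wappS_eq] at key
  exact key

theorem hS10 : ∀ p < Fi23a.N, S10 p = p := by
  intro p hp
  have hp' : p < 31671 := hp
  by_cases h0 : p < 8000
  · exact chkFix_spec chkS0 p (by omega) (by omega)
  by_cases h1 : p < 16000
  · exact chkFix_spec chkS1 p (by omega) (by omega)
  by_cases h2 : p < 24000
  · exact chkFix_spec chkS2 p (by omega) (by omega)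
  by_cases h3 : p < 31671
  · exact chkFix_spec chkS3 p (by omega) (by omega)
  omega

theorem hV0 : ∀ p < Fi23a.N, wapp px2 [10, 10] p = p := by
  intro p hp
  have hp' : p < 31671 := hp
  rw [← wappS_eq]
  by_cases h0 : p < 8000
  · exact chkFix_spec chkV0_0 p (by omega) (by omega)
  by_cases h1 : p < 16000
  · exact chkFix_spec chkV0_1 p (by omega) (by omega)
  by_cases h2 : p < 24000
  · exact chkFix_spec chkV0_2 p (by omega) (by omega)
  by_cases h3 : p < 31671
  · exact chkFix_spec chkV0_3 p (by omega) (by omega)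
  omega

theorem hV1 : ∀ p < Fi23a.N, wapp px2 [0, 10, 0, 10] p = p := by
  intro p hp
  have hp' : p < 31671 := hp
  rw [← wappS_eq]
  by_cases h0 : p < 8000
  · exact chkFix_spec chkV1_0 p (by omega) (by omega)
  by_cases h1 : p < 16000
  · exact chkFix_spec chkV1_1 p (by omega) (by omega)
  by_cases h2 : p < 24000
  · exact chkFix_spec chkV1_2 p (by omega) (by omega)
  by_cases h3 : p < 31671
  · exact chkFix_spec chkV1_3 p (by omega) (by omega)
  omega

theorem hV2 : ∀ p < Fi23a.N, wapp px2 [1, 10, 1, 10] p = p := by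
  intro p hp
  have hp' : p < 31671 := hp
  rw [← wappS_eq]
  by_cases h0 : p < 8000
  · exact chkFix_spec chkV2_0 p (by omega) (by omega)
  by_cases h1 : p < 16000
  · exact chkFix_spec chkV2_1 p (by omega) (by omega)
  by_cases h2 : p < 24000
  · exact chkFix_spec chkV2_2 p (by omega) (by omega)
  by_cases h3 : p < 31671
  · exact chkFix_spec chkV2_3 p (by omega) (by omega)
  omega

theorem hV3 : ∀ p < Fi23a.N, wapp px2 [2, 10, 2, 10] p = p := by
  intro p hp
  have hp' : p < 31671 := hp
  rw [← wappS_eq]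
  by_cases h0 : p < 8000
  · exact chkFix_spec chkV3_0 p (by omega) (by omega)
  by_cases h1 : p < 16000
  · exact chkFix_spec chkV3_1 p (by omega) (by omega)
  by_cases h2 : p < 24000
  · exact chkFix_spec chkV3_2 p (by omega) (by omega)
  by_cases h3 : p < 31671
  · exact chkFix_spec chkV3_3 p (by omega) (by omega)
  omega

theorem hV4 : ∀ p < Fi23a.N, wapp px2 [3, 10, 3, 10] p = p := by
  intro p hp
  have hp' : p < 31671 := hp
  rw [← wappS_eq]
  by_cases h0 : p < 8000
  · exact chkFix_spec chkV4_0 p (by omega) (by omega)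
  by_cases h1 : p < 16000
  · exact chkFix_spec chkV4_1 p (by omega) (by omega)
  by_cases h2 : p < 24000
  · exact chkFix_spec chkV4_2 p (by omega) (by omega)
  by_cases h3 : p < 31671
  · exact chkFix_spec chkV4_3 p (by omega) (by omega)
  omega

theorem hV5 : ∀ p < Fi23a.N, wapp px2 [4, 10, 4, 10] p = p := by
  intro p hp
  have hp' : p < 31671 := hp
  rw [← wappS_eq]
  by_cases h0 : p < 8000
  · exact chkFix_spec chkV5_0 p (by omega) (by omega)
  by_cases h1 : p < 16000
  · exact chkFix_spec chkV5_1 p (by omega) (by omega)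
  by_cases h2 : p < 24000
  · exact chkFix_spec chkV5_2 p (by omega) (by omega)
  by_cases h3 : p < 31671
  · exact chkFix_spec chkV5_3 p (by omega) (by omega)
  omega

theorem hV6 : ∀ p < Fi23a.N, wapp px2 [5, 10, 5, 10] p = p := by
  intro p hp
  have hp' : p < 31671 := hp
  rw [← wappS_eq]
  by_cases h0 : p < 8000
  · exact chkFix_spec chkV6_0 p (by omega) (by omega)
  by_cases h1 : p < 16000
  · exact chkFix_spec chkV6_1 p (by omega) (by omega)
  by_cases h2 : p < 24000
  · exact chkFix_spec chkV6_2 p (by omega) (by omega)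
  by_cases h3 : p < 31671
  · exact chkFix_spec chkV6_3 p (by omega) (by omega)
  omega

theorem hV7 : ∀ p < Fi23a.N, wapp px2 [6, 10, 6, 10] p = p := by
  intro p hp
  have hp' : p < 31671 := hp
  rw [← wappS_eq]
  by_cases h0 : p < 8000
  · exact chkFix_spec chkV7_0 p (by omega) (by omega)
  by_cases h1 : p < 16000
  · exact chkFix_spec chkV7_1 p (by omega) (by omega)
  by_cases h2 : p < 24000
  · exact chkFix_spec chkV7_2 p (by omega) (by omega)
  by_cases h3 : p < 31671
  · exact chkFix_spec chkV7_3 p (by omega) (by omega)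
  omega

theorem hV8 : ∀ p < Fi23a.N, wapp px2 [8, 10, 8, 10] p = p := by
  intro p hp
  have hp' : p < 31671 := hp
  rw [← wappS_eq]
  by_cases h0 : p < 8000
  · exact chkFix_spec chkV8_0 p (by omega) (by omega)
  by_cases h1 : p < 16000
  · exact chkFix_spec chkV8_1 p (by omega) (by omega)
  by_cases h2 : p < 24000
  · exact chkFix_spec chkV8_2 p (by omega) (by omega)
  by_cases h3 : p < 31671
  · exact chkFix_spec chkV8_3 p (by omega) (by omega)
  omega

theorem hV9 : ∀ p < Fi23a.N, wapp px2 [9, 10, 9, 10] p = p := by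
  intro p hp
  have hp' : p < 31671 := hp
  rw [← wappS_eq]
  by_cases h0 : p < 8000
  · exact chkFix_spec chkV9_0 p (by omega) (by omega)
  by_cases h1 : p < 16000
  · exact chkFix_spec chkV9_1 p (by omega) (by omega)
  by_cases h2 : p < 24000
  · exact chkFix_spec chkV9_2 p (by omega) (by omega)
  by_cases h3 : p < 31671
  · exact chkFix_spec chkV9_3 p (by omega) (by omega)
  omega

theorem hV10 : ∀ p < Fi23a.N, wapp px2 [7, 10, 7, 10, 7, 10] p = p := by
  intro p hp
  have hp' : p < 31671 := hp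
  rw [← wappS_eq]
  by_cases h0 : p < 8000
  · exact chkFix_spec chkV10_0 p (by omega) (by omega)
  by_cases h1 : p < 16000
  · exact chkFix_spec chkV10_1 p (by omega) (by omega)
  by_cases h2 : p < 24000
  · exact chkFix_spec chkV10_2 p (by omega) (by omega)
  by_cases h3 : p < 31671
  · exact chkFix_spec chkV10_3 p (by omega) (by omega)
  omega

theorem hV : ∀ v ∈ V, ∀ p < Fi23a.N, wapp px2 v p = p := by
  intro v hv
  simp only [V, List.mem_cons, List.not_mem_nil, or_false] at hv
  rcases hv with rfl | rfl | rfl | rfl | rfl | rfl | rfl | rfl | rfl | rfl | rfl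
  · exact hV0
  · exact hV1
  · exact hV2
  · exact hV3
  · exact hV4
  · exact hV5
  · exact hV6
  · exact hV7
  · exact hV8
  · exact hV9
  · exact hV10

end Cfsg.Agent.Lib.Helper6.TCD.Y5W
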