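import Cfsg.Agent.Lib.Helper6.TCD.Y5W.Par
set_option autoImplicit false
set_option maxRecDepth 1000000
set_option Elab.async false
open Cfsg.Agent.Lib.Helper6.TC
namespace Cfsg.Agent.Lib.Helper6.TCD.Y5W
theorem chkQW0 : allR (fun p => Nat.beq (wappS Fi23a.px w7 p) (QW p)) 0 8000 = true := by decide +kernel
theorem chkQS0 : allR (fun p => Nat.beq (wappS Fi23a.px s9 p) (QS p)) 0 8000 = true := by decide +kernel
theorem chkQW1 : allR (fun p => Nat.beq (wappS Fi23a.px w7 p) (QW p)) 8000 8000 = true := by decide +kernel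
theorem chkQS1 : allR (fun p => Nat.beq (wappS Fi23a.px s9 p) (QS p)) 8000 8000 = true := by decide +kernel
theorem chkQW2 : allR (fun p => Nat.beq (wappS Fi23a.px w7 p) (QW p)) 16000 8000 = true := by decide +kernel
theorem chkQS2 : allR (fun p => Nat.beq (wappS Fi23a.px s9 p) (QS p)) 16000 8000 = true := by decide +kernel
theorem chkQW3 : allR (fun p => Nat.beq (wappS Fi23a.px w7 p) (QW p)) 24000 7671 = true := by decide +kernel
theorem chkQS3 : allR (fun p => Nat.beq (wappS Fi23a.px s9 p) (QS p)) 24000 7671 = true := by decide +kernel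
end Cfsg.Agent.Lib.Helper6.TCD.Y5W
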