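import Cfsg.Agent.Lib.Helper6.TCD.Fi23a.Par
import Cfsg.Agent.Lib.Helper6.WP9
import Cfsg.Agent.Lib.Helper6.TC11
import Cfsg.Agent.Lib.Helper6.TCD.Y5W.QW
import Cfsg.Agent.Lib.Helper6.TCD.Y5W.QS
set_option autoImplicit false
namespace Cfsg.Agent.Lib.Helper6.TCD.Y5W
open Cfsg.Agent.Lib.Helper6.TC
/-- the Coxeter word of the diagram of type `E₇` on `d, e, c, h, f, b, g` -/
def w7 : List ℕ := [3, 4, 2, 8, 5, 1, 6]
/-- the word `d c b d h i d e f` of the other spider -/
def s9 : List ℕ := [3, 2, 1, 3, 8, 9, 3, 4, 5]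
/-- the ninth power of the tabulated action of `w7` -/
noncomputable def W9 (p : Nat) : Nat := QW (QW (QW (QW (QW (QW (QW (QW (QW p))))))))
/-- the tenth power of the tabulated action of `s9` -/
noncomputable def S10 (p : Nat) : Nat := QS (QS (QS (QS (QS (QS (QS (QS (QS (QS p)))))))))
/-- the action of the columns of `Fi23`, and of the word `w7 ^ 9` as the column `10` -/
noncomputable def px2 (c p : Nat) : Nat := Bool.rec (Fi23a.px c p) (W9 p) (Nat.beq c 10)
/-- the words in the columns `0, …, 10` to be checked -/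
def V : List (List ℕ) := [[10, 10], [0, 10, 0, 10], [1, 10, 1, 10], [2, 10, 2, 10], [3, 10, 3, 10], [4, 10, 4, 10], [5, 10, 5, 10], [6, 10, 6, 10], [8, 10, 8, 10], [9, 10, 9, 10], [7, 10, 7, 10, 7, 10]]
end Cfsg.Agent.Lib.Helper6.TCD.Y5W
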